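import Mathlib

/-!
# Project SLP (designer helper17): S2286 (10u).  `SL₂(F)` and `PSL₂(F)` (`F` a finite field) have
presentations with 3 generators and at most 9 relations; in characteristic 2 at most 5.

Definitions: the group words of the presentation (functions of elements `u h w` of an arbitrary group,
so that the same word can be evaluated in `FreeGroup (Fin 3)`, in a presented group and in `SL₂(F)`),
the three generators in `SL₂(F)`, and the word lists.

Generators: `u = x(1) = [[1,1],[0,1]]`, `h = diag(ζ, ζ⁻¹)` (`ζ` a generator of `Fˣ`),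
`w = [[0,1],[-1,0]]`.  `cj h u i = h^i u h^(-i)` corresponds to `x(λ^i)`, `λ = ζ²`.
-/

set_option autoImplicit false

namespace Cfsg.Agent.Lib.helper17.SLP

open Polynomial

universe u v

section Words

variable {G : Type u} [Group G]

/-- `cj h u i = h^i * u * h^(-i)`. -/
def cj (h u : G) (i : ℤ) : G := h ^ i * u * h ^ (-i)

/-- the word of a polynomial `f` over `ZMod p`: the ORDERED product over `j = 0, …, natDegree f` of
`(cj h u (l * j)) ^ (f.coeff j).val`. -/
def pw (p : ℕ) (h u : G) (l : ℤ) (f : (ZMod p)[X]) : G :=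
  ((List.range (f.natDegree + 1)).map fun j : ℕ => cj h u (l * (j : ℤ)) ^ (f.coeff j).val).prod

/-- the alternating word `a b a b …` with `n` letters. -/
def alt : ℕ → G → G → G
  | 0, _, _ => 1
  | n + 1, a, b => a * alt n b a

/-- the braid relator of length `n`: `(a b a …) (b a b …)⁻¹`. -/
def braid (n : ℕ) (a b : G) : G := alt n a b * (alt n b a)⁻¹

/-- the commutator word `a b a⁻¹ b⁻¹`. -/
def cm (a b : G) : G := a * b * a⁻¹ * b⁻¹

/-- rank-one relator at `t = 1`: `x(1) · w x(1) w⁻¹ · x(1) = w`. -/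
def relK1 (u w : G) : G := u * w * u * w⁻¹ * u * w⁻¹

/-- rank-one relator at `t = ζ` (`a = x(ζ)`, `h⁻¹ a h = x(ζ⁻¹)`): `a · w (h⁻¹ a h) w⁻¹ · a = h w`. -/
def relK2 (a h w : G) : G := a * w * (h⁻¹ * a * h) * w⁻¹ * a * w⁻¹ * h⁻¹

theorem cj_zero (h u : G) : cj h u 0 = u := by simp [cj]

theorem cj_one (h u : G) : cj h u 1 = h * u * h⁻¹ := by simp [cj]

/-- conjugating `cj h u i` by `h ^ j`. -/
theorem conj_cj (h u : G) (i j : ℤ) : h ^ j * cj h u i * h ^ (-j) = cj h u (j + i) := by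
  simp only [cj, zpow_add, neg_add_rev, mul_assoc]

theorem cj_zpow (h u : G) (l j : ℤ) : cj (h ^ l) u j = cj h u (l * j) := by
  simp only [cj, ← zpow_mul, mul_neg]

theorem pw_zpow (p : ℕ) (h u : G) (l : ℤ) (f : (ZMod p)[X]) :
    pw p (h ^ l) u 1 f = pw p h u l f := by
  simp only [pw, cj_zpow, one_mul]

theorem cj_pow (h u : G) (i : ℤ) (n : ℕ) : cj h (u ^ n) i = cj h u i ^ n := by
  simp only [cj, zpow_neg]
  rw [conj_pow]

theorem cm_eq_one_iff (a b : G) : cm a b = 1 ↔ Commute a b := by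
  unfold cm Commute SemiconjBy
  constructor
  · intro h
    have : a * b * a⁻¹ * b⁻¹ * b * a = b * a := by rw [h, one_mul]
    simpa [mul_assoc] using this
  · intro h
    rw [h]
    group

theorem alt_odd (a b : G) (m : ℕ) : alt (2 * m + 1) a b = (a * b) ^ m * a := by
  induction m with
  | zero => simp [alt]
  | succ m ih =>
    have : 2 * (m + 1) + 1 = (2 * m + 1) + 1 + 1 := by ring
    rw [this, alt, alt, ih, pow_succ']
    simp only [mul_assoc]

variable {H : Type v} [Group H]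

theorem map_cj (φ : G →* H) (h u : G) (i : ℤ) : φ (cj h u i) = cj (φ h) (φ u) i := by
  simp only [cj, map_mul, map_zpow]

theorem map_pw (φ : G →* H) (p : ℕ) (h u : G) (l : ℤ) (f : (ZMod p)[X]) :
    φ (pw p h u l f) = pw p (φ h) (φ u) l f := by
  simp only [pw, map_list_prod, List.map_map]
  congr 1
  apply List.map_congr_left
  intro j _
  simp only [Function.comp_apply, map_pow, map_cj]

theorem map_alt (φ : G →* H) (n : ℕ) (a b : G) : φ (alt n a b) = alt n (φ a) (φ b) := by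
  induction n generalizing a b with
  | zero => simp [alt]
  | succ n ih => simp only [alt, map_mul, ih]

theorem map_braid (φ : G →* H) (n : ℕ) (a b : G) : φ (braid n a b) = braid n (φ a) (φ b) := by
  simp only [braid, map_mul, map_inv, map_alt]

theorem map_cm (φ : G →* H) (a b : G) : φ (cm a b) = cm (φ a) (φ b) := by
  simp only [cm, map_mul, map_inv]

theorem map_relK1 (φ : G →* H) (u w : G) : φ (relK1 u w) = relK1 (φ u) (φ w) := by
  simp only [relK1, map_mul, map_inv]

theorem map_relK2 (φ : G →* H) (a h w : G) : φ (relK2 a h w) = relK2 (φ a) (φ h) (φ w) := by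
  simp only [relK2, map_mul, map_inv]

end Words

section Free

/-- the three generators of `FreeGroup (Fin 3)`. -/
abbrev gU : FreeGroup (Fin 3) := FreeGroup.of 0
abbrev gH : FreeGroup (Fin 3) := FreeGroup.of 1
abbrev gW : FreeGroup (Fin 3) := FreeGroup.of 2

variable {G : Type u} [Group G]

/-- evaluation of a word of `FreeGroup (Fin 3)` at `u h w`. -/
def ev (u h w : G) : FreeGroup (Fin 3) →* G := FreeGroup.lift ![u, h, w]

@[simp] theorem ev_gU (u h w : G) : ev u h w gU = u := by simp [ev, gU]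
@[simp] theorem ev_gH (u h w : G) : ev u h w gH = h := by simp [ev, gH]
@[simp] theorem ev_gW (u h w : G) : ev u h w gW = w := by simp [ev, gW]

/-- A-part, scheme Q (`[F : F_p] ≤ 2`): `m = minpoly λ`. -/
def wordsQ (p : ℕ) (m : (ZMod p)[X]) : List (FreeGroup (Fin 3)) :=
  [gU ^ p, cm gU (cj gH gU 1), pw p gH gU 1 m]

/-- A-part, scheme R (Baumslag / BCRW trick, odd `q > 9`): `λ^k = λ^l + 1`, `μ = λ^l`, `m = minpoly μ`,
`fl(μ) = λ`. -/
def wordsR (p : ℕ) (k l : ℤ) (m fl : (ZMod p)[X]) : List (FreeGroup (Fin 3)) :=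
  [gU ^ p, cm gU (cj gH gU l), cj gH gU k * (cj gH gU l * gU)⁻¹, pw p gH gU l m,
    cj gH gU 1 * (pw p gH gU l fl)⁻¹]

/-- A-part, characteristic 2, `q ≥ 4`: `λ^k = λ + 1`, `m = minpoly λ`. -/
def wordsR2 (k : ℤ) (m : (ZMod 2)[X]) : List (FreeGroup (Fin 3)) :=
  [gU ^ 2, cj gH gU k * (cj gH gU 1 * gU)⁻¹, pw 2 gH gU 1 m]

/-- torus / rank-one part for `SL₂`, `q` odd, `n = (q - 1) / 2`, `az` the word of `x(ζ)`. -/
def wordsSL (n : ℕ) (az : FreeGroup (Fin 3)) : List (FreeGroup (Fin 3)) :=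
  [gW * gH * gW⁻¹ * gH, gW ^ 2 * (gH ^ n)⁻¹, relK1 gU gW, relK2 az gH gW]

/-- torus / rank-one part for `PSL₂`, `q` odd, `(q - 1) / 2` even. -/
def wordsPE (az : FreeGroup (Fin 3)) : List (FreeGroup (Fin 3)) :=
  [gW * gH * gW⁻¹ * gH, gW ^ 2, relK1 gU gW, relK2 az gH gW]

/-- torus / rank-one part for `PSL₂`, `q` odd, `n = (q - 1) / 2` odd. -/
def wordsPO (n : ℕ) (az : FreeGroup (Fin 3)) : List (FreeGroup (Fin 3)) :=
  [gW ^ 2, braid n (gH * gW) gW, relK1 gU gW, relK2 az gH gW]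

/-- torus / rank-one part in characteristic 2, `n = q - 1`. -/
def wordsT (n : ℕ) : List (FreeGroup (Fin 3)) :=
  [relK1 gU gW, braid n (gH * gW) gW]

end Free

section Mat

variable {F : Type u} [Field F]

/-- `x(t) = [[1,t],[0,1]]`. -/
def xM (t : F) : Matrix.SpecialLinearGroup (Fin 2) F :=
  ⟨!![1, t; 0, 1], by simp [Matrix.det_fin_two_of]⟩

/-- `h(s) = diag(s, s⁻¹)`. -/
def hM (s : Fˣ) : Matrix.SpecialLinearGroup (Fin 2) F :=
  ⟨!![(s : F), 0; 0, ((s⁻¹ : Fˣ) : F)], by simp [Matrix.det_fin_two_of]⟩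

/-- `w = [[0,1],[-1,0]]`. -/
def wM : Matrix.SpecialLinearGroup (Fin 2) F :=
  ⟨!![0, 1; -1, 0], by simp [Matrix.det_fin_two_of]⟩

end Mat

end Cfsg.Agent.Lib.helper17.SLP
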